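import Groth.Agent.Lib.RefHull26.DepthExt
import Groth.Agent.Lib.Fitting26.Sheaf
import Groth.Agent.Lib.Fitting.Local
import Groth.Agent.Lib.ModM1.LocFree
import Groth.Agent.Lib.CohFound.ModQuot
import Groth.Agent.Lib.Cyc26.Stalk

/-! # Generation by `r` sections and Fitting ideals -/

set_option autoImplicit false
universe u

set_option backward.isDefEq.respectTransparency.types false

open CategoryTheory AlgebraicGeometry TopologicalSpace Opposite

namespace Groth.Agent.FitGen26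

variable {X : Scheme.{u}}

theorem stalkMap_free {G : X.Modules} {I : Type u} (p : M1.fr I ⟶ G) (x : X) (a : (M1.fr I : X.Modules).presheaf.stalk x) :
    RefHull.stalkMapₗ p x a ∈
      Submodule.span (X.presheaf.stalk x) (Set.range fun i => G.presheaf.germ ⊤ x trivial (M1.freeSec p i)) := by
  let N := Submodule.span (X.presheaf.stalk x) (Set.range fun i => G.presheaf.germ ⊤ x trivial (M1.freeSec p i))
  refine CohFound.stalk_map_mem p x N.toAddSubgroup (fun i b => ?_) a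
  obtain ⟨c, hc⟩ := (Cyc26.structureModule_stalk_bijective (Z := X) x).2 b
  rw [← hc]
  show RefHull.stalkMapₗ p x (RefHull.stalkMapₗ (M1.ιF i) x (c • _)) ∈ N
  rw [map_smul, map_smul, RefHull.stalkMapₗ_germ, RefHull.stalkMapₗ_germ]
  exact N.smul_mem c (Submodule.subset_span ⟨i, rfl⟩)

theorem epi_of_span {G : X.Modules} {I : Type u} (σ : I → Γ(G, ⊤))
    (h : ∀ x : X, Submodule.span (X.presheaf.stalk x) (Set.range fun i => G.presheaf.germ ⊤ x trivial (σ i)) = ⊤) :
    Epi (M1.freeHom σ) := by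
  refine (M1.epi_iff_stalk _).2 fun x b => ?_
  have hb : b ∈ Submodule.span (X.presheaf.stalk x) (Set.range fun i => G.presheaf.germ ⊤ x trivial (σ i)) := by
    rw [h x]; trivial
  have hle : Submodule.span (X.presheaf.stalk x) (Set.range fun i => G.presheaf.germ ⊤ x trivial (σ i)) ≤
      LinearMap.range (RefHull.stalkMapₗ (M1.freeHom σ) x) := by
    refine Submodule.span_le.2 ?_
    rintro _ ⟨i, rfl⟩
    refine ⟨(M1.fr I : X.Modules).presheaf.germ ⊤ x trivial ((M1.ιF i).app ⊤ (M1.one ⊤)), ?_⟩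
    rw [RefHull.stalkMapₗ_germ]
    refine congrArg _ ?_
    have e : M1.freeSec (M1.freeHom σ) i = σ i := by
      rw [M1.freeSec, M1.ιF_freeHom, M1.secHom_app_one]
    exact e
  exact hle hb

variable {F : X.Modules}

theorem exists_stalk_equiv (F : X.Modules) (U : X.Opens) (z : (U : Scheme.{u})) :
    ∃ e : (F.restrict U.ι).presheaf.stalk z ≃+ F.presheaf.stalk z.1,
      (∀ (a : (U : Scheme.{u}).presheaf.stalk z) (v : (F.restrict U.ι).presheaf.stalk z),
        e (a • v) = (U.stalkIso z).hom a • e v) ∧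
      ∀ (t : Γ(F.restrict U.ι, ⊤)), e ((F.restrict U.ι).presheaf.germ ⊤ z trivial t) =
        F.presheaf.germ (U.ι ''ᵁ ⊤) z.1 ⟨z, trivial, rfl⟩ ((F.restrictAppIso U.ι ⊤).hom t) := by
  let i := (Scheme.Modules.restrictStalkNatIso U.ι z).app F
  let e : (F.restrict U.ι).presheaf.stalk z ≃+ F.presheaf.stalk z.1 := i.addCommGroupIsoToAddEquiv
  refine ⟨e, fun a v => ?_, fun t =>
    ConcreteCategory.congr_hom (Scheme.Modules.germ_restrictStalkNatIso_hom_app U.ι z F (U := ⊤) trivial) t⟩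
  obtain ⟨W, hW, r, rfl⟩ := (U : Scheme.{u}).presheaf.exists_germ_eq a
  obtain ⟨W', hW', m, rfl⟩ := (F.restrict U.ι).presheaf.exists_germ_eq v
  have key : ∀ (V : (U : Scheme.{u}).Opens) (hV : z ∈ V) (t : Γ(F.restrict U.ι, V)),
      e ((F.restrict U.ι).presheaf.germ V z hV t) =
        F.presheaf.germ (U.ι ''ᵁ V) z.1 ⟨z, hV, rfl⟩ ((F.restrictAppIso U.ι V).hom t) := fun V hV t =>
    ConcreteCategory.congr_hom (Scheme.Modules.germ_restrictStalkNatIso_hom_app U.ι z F hV) t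
  have hstalk : ∀ (V : (U : Scheme.{u}).Opens) (hV : z ∈ V) (t : Γ((U : Scheme.{u}), V)),
      (U.stalkIso z).hom ((U : Scheme.{u}).presheaf.germ V z hV t) =
        X.presheaf.germ (U.ι ''ᵁ V) z.1 ⟨z, hV, rfl⟩ (show Γ(X, U.ι ''ᵁ V) from t) := fun V hV t =>
    ConcreteCategory.congr_hom (Scheme.Opens.germ_stalkIso_hom U z hV) t
  rw [← TopCat.Presheaf.germ_res_apply (U : Scheme.{u}).presheaf (homOfLE (inf_le_left : W ⊓ W' ≤ W)) z ⟨hW, hW'⟩ r,
    ← TopCat.Presheaf.germ_res_apply (F.restrict U.ι).presheaf (homOfLE (inf_le_right : W ⊓ W' ≤ W')) z ⟨hW, hW'⟩ m,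
    ← RH26.gsmul, key, key, hstalk, ← RH26.gsmul]
  congr 1
  exact M1.restrict_ι_smul (M := F) _ _

theorem exists_span_stalk_of_epi (U : X.Opens) (r : ℕ) (π : FlatMod.freeMod (↑U) r ⟶ F.restrict U.ι) [Epi π]
    {x : X} (hx : x ∈ U) :
    ∃ g : Fin r → F.presheaf.stalk x, Submodule.span (X.presheaf.stalk x) (Set.range g) = ⊤ := by
  let z : (U : Scheme.{u}) := ⟨x, hx⟩
  let p := (M1.freeModFrIso (↑U : Scheme.{u}) r).inv ≫ π
  haveI : Epi p := epi_comp _ _
  obtain ⟨e, he, -⟩ := exists_stalk_equiv F U z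
  refine ⟨fun i => e ((F.restrict U.ι).presheaf.germ ⊤ z trivial (M1.freeSec p ⟨i⟩)), eq_top_iff.2 fun v _ => ?_⟩
  obtain ⟨a, ha⟩ := (M1.epi_iff_stalk p).1 inferInstance z (e.symm v)
  have hm := stalkMap_free p z a
  rw [show RefHull.stalkMapₗ p z a = e.symm v from ha] at hm
  rw [← e.apply_symm_apply v]
  refine Submodule.span_induction (p := fun w _ => e w ∈ Submodule.span (X.presheaf.stalk x)
    (Set.range fun i : Fin r => e ((F.restrict U.ι).presheaf.germ ⊤ z trivial (M1.freeSec p ⟨i⟩)))) ?_ ?_ ?_ ?_ hm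
  · rintro _ ⟨⟨i⟩, rfl⟩
    exact Submodule.subset_span ⟨i, rfl⟩
  · rw [map_zero]; exact zero_mem _
  · intro a b _ _ ha hb; rw [map_add]; exact add_mem ha hb
  · intro c a _ ha; rw [he]; exact Submodule.smul_mem _ _ ha

theorem exists_epi_of_smul_mem (hM : Coh.IsQCoh F) {V : X.Opens} (hV : IsAffineOpen V) {r : ℕ} (u : Γ(X, V))
    (g : Fin r → Γ(F, V)) (hg : ∀ m : Γ(F, V), u • m ∈ Submodule.span Γ(X, V) (Set.range g)) :
    ∃ π : FlatMod.freeMod (↑(X.basicOpen u)) r ⟶ F.restrict (X.basicOpen u).ι, Epi π := by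
  haveI := hM
  have hle : (X.basicOpen u).ι ''ᵁ ⊤ ≤ V := by
    rintro _ ⟨z, -, rfl⟩
    exact X.basicOpen_le u z.2
  let σ : ULift.{u} (Fin r) → Γ(F.restrict (X.basicOpen u).ι, ⊤) := fun i =>
    (F.restrictAppIso (X.basicOpen u).ι ⊤).inv (F.presheaf.map (homOfLE hle).op (g i.down))
  suffices hE : Epi (M1.freeHom σ) from
    ⟨(M1.freeModFrIso _ r).hom ≫ M1.freeHom σ, epi_comp _ _⟩
  refine epi_of_span σ fun z => eq_top_iff.2 fun w _ => ?_
  obtain ⟨e, he, heg⟩ := exists_stalk_equiv F (X.basicOpen u) z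
  let σe := ((X.basicOpen u).stalkIso z).commRingCatIsoToRingEquiv
  have hzV : z.1 ∈ V := X.basicOpen_le u z.2
  have huz : IsUnit (X.presheaf.germ V z.1 hzV u) := (Scheme.mem_basicOpen X u z.1 hzV).1 z.2
  let N := Submodule.span ((X.basicOpen u).toScheme.presheaf.stalk z)
    (Set.range fun i => (F.restrict (X.basicOpen u).ι).presheaf.germ ⊤ z trivial (σ i))
  have hmem : ∀ m : Γ(F, V), ∃ t ∈ N, e t = X.presheaf.germ V z.1 hzV u • F.presheaf.germ V z.1 hzV m := fun m => by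
    rw [← RH26.gsmul]
    refine Submodule.span_induction (p := fun y _ => ∃ t ∈ N, e t = F.presheaf.germ V z.1 hzV y) ?_ ?_ ?_ ?_ (hg m)
    · rintro _ ⟨i, rfl⟩
      refine ⟨_, Submodule.subset_span ⟨⟨i⟩, rfl⟩, ?_⟩
      rw [heg]
      simp only [σ, Iso.inv_hom_id_apply]
      exact TopCat.Presheaf.germ_res_apply F.presheaf (homOfLE hle) z.1 _ (g i)
    · exact ⟨0, zero_mem _, by rw [map_zero, map_zero]⟩
    · rintro a b _ _ ⟨t, ht, hte⟩ ⟨t', ht', hte'⟩
      exact ⟨t + t', add_mem ht ht', by rw [map_add, map_add, hte, hte']⟩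
    · rintro c a _ ⟨t, ht, hte⟩
      refine ⟨σe.symm (X.presheaf.germ V z.1 hzV c) • t, N.smul_mem _ ht, ?_⟩
      rw [he, hte, RH26.gsmul]
      congr 1
      exact σe.apply_symm_apply _
  obtain ⟨c, m, hc, hcm⟩ := M1.exists_germ_smul_eq F hV hzV (e w)
  obtain ⟨t, ht, hte⟩ := hmem m
  obtain ⟨k, hk⟩ := (huz.mul hc).exists_left_inv
  have hwt : w = σe.symm k • t := by
    apply e.injective
    rw [he, hte, ← hcm, show (((X.basicOpen u).stalkIso z).hom) (σe.symm k) = k from σe.apply_symm_apply k,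
      ← mul_smul, ← mul_smul]
    exact ((congrArg (· • e w) ((mul_assoc k _ _).trans hk)).trans (one_smul _ _)).symm
  rw [hwt]
  exact N.smul_mem _ ht

/-- Generation by `r` sections near a point is the `r`-th Fitting ideal being trivial there. -/
theorem generated_iff (hF : Coh.IsQCoh F) (hft : CohB1.IsFT F) (x : X) (r : ℕ) :
    (∃ U : X.Opens, x ∈ U ∧ ∃ π : FlatMod.freeMod (↑U) r ⟶ F.restrict U.ι, Epi π) ↔
      x ∉ (Fitt.sheafIdeal F r).support := by
  obtain ⟨V, hV, hxV, -⟩ := exists_isAffineOpen_mem_and_subset (x := x) (U := (⊤ : X.Opens)) trivial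
  haveI := hF
  haveI := M1.finite_sections hF hft hV
  rw [Fitting26.mem_support_iff hF hft r hV hxV, FittingLib.not_le_iff_exists_smul_mem_span]
  constructor
  · rintro ⟨U, hxU, π, hπ⟩
    obtain ⟨g, hg⟩ := exists_span_stalk_of_epi U r π hxU
    letI := M1.stalkModule F hxV
    letI := TopCat.Presheaf.algebra_section_stalk X.presheaf (⟨x, hxV⟩ : V)
    haveI := hV.isLocalization_stalk ⟨x, hxV⟩
    haveI : IsScalarTower Γ(X, V) (X.presheaf.stalk x) (F.presheaf.stalk x) :=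
      IsScalarTower.of_algebraMap_smul fun _ _ => rfl
    haveI := M1.isLocalizedModule_germ F hV hxV
    obtain ⟨s, g', hs⟩ := FittingLib.exists_smul_mem_span_of_span_localized
      (hV.primeIdealOf ⟨x, hxV⟩).asIdeal.primeCompl (X.presheaf.stalk x) (M1.germₗ F hxV) g hg
    exact ⟨s, g', s.2, hs⟩
  · rintro ⟨u, g, hu, hg⟩
    exact ⟨X.basicOpen u, (Scheme.mem_basicOpen X u x hxV).2 ((M1.isUnit_germ_iff hV hxV u).2 hu),
      exists_epi_of_smul_mem hF hV u g hg⟩

end Groth.Agent.FitGen26
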